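import Cfsg.Agent.H296.JT.Three
import Cfsg.Agent.H715.Fpr.J3

/-!
# S3499, `J₃`: the elementary abelian subgroups (helper296)
-/

set_option autoImplicit false
set_option linter.unusedSectionVars false
set_option linter.unusedVariables false

namespace Cfsg.Agent.H296.JT

open Subgroup Cfsg Cfsg.Spor Cfsg.Agent.H59.EP Cfsg.Agent.J3Type.OneClass

section gen
variable {K : Type*} [Group K] [Finite K]

theorem index_le_of {H : Subgroup K} {n a b : ℕ} (hK : Nat.card K = n) (hH : a ≤ Nat.card H) (ha : 0 < a)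
    (hb : n < a * (b + 1)) : H.index ≤ b := by
  have h := H.card_mul_index
  rw [hK] at h
  by_contra hcon
  push Not at hcon
  have h1 : a * (b + 1) ≤ Nat.card H * H.index := Nat.mul_le_mul hH hcon
  omega

/-- the elementary abelian `s`-subgroups, `s ^ 2 ∤ |K|` -/
theorem ncard_elab_prime {s c : ℕ} (hs : s.Prime) (h2 : ¬ s ^ 2 ∣ Nat.card K)
    (hc : ∀ P : Subgroup K, Nat.card P = s → (normalizer (P : Set K)).index ≤ c) :
    {E : Subgroup K | ElAb s E ∧ E ≠ ⊥}.ncard ≤ c := by
  refine (Set.ncard_le_ncard ?_ (Set.toFinite _)).trans (ncard_sub_le hs h2 hc)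
  rintro E ⟨h1, hne⟩
  obtain ⟨m, hm, hE⟩ := elab_card hs h1 hne
  have hm1 : m = 1 := by
    by_contra hm1
    apply h2
    have h3 : s ^ 2 ∣ s ^ m := pow_dvd_pow s (by omega)
    rw [← hE] at h3
    exact h3.trans (card_subgroup_dvd_card E)
  show Nat.card E = s
  rw [hE, hm1, pow_one]

/-- `p`-subgroups -/
theorem elab_isPGroup {s : ℕ} {E : Subgroup K} (h : ElAb s E) : IsPGroup s E := by
  rintro ⟨y, hy⟩
  refine ⟨1, Subtype.ext ?_⟩
  rw [pow_one]
  exact h.exp y hy

theorem cent_le_norm {s : ℕ} {E : Subgroup K} {x : K} (hE : E = zpowers x) :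
    centralizer ({x} : Set K) ≤ normalizer (E : Set K) := by
  rw [hE]
  refine le_trans ?_ (centralizer_le_normalizer _)
  rw [← Cfsg.Agent.H898.J3Cent.centralizer_zpowers x]

end gen

variable {K : Type} [Group K]

theorem card_eq (h : IsoJ3 K) : Nat.card K = 2 ^ 7 * (3 ^ 5 * (5 * (17 * 19))) := by
  rw [card_j3 h]; norm_num

/-! ### the prime 2 -/

theorem T2 (h : IsoJ3 K) : {E : Subgroup K | ElAb 2 E ∧ E ≠ ⊥}.ncard ≤ 9500000 := by
  have := fin_j3 h
  refine (ncard_all_le (m := 7) Nat.prime_two (ncard_inv h) (fun y hy hy1 => ncard_comm h hy hy1) ?_).trans ?_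
  · rw [card_j3 h]
    norm_num
  · decide +kernel

/-! ### the prime 3 -/

theorem card_syl (h : IsoJ3 K) : {S : Subgroup K | Nat.card S = 243}.ncard ≤ 206720 := by
  have := fin_j3 h
  have f3 := Fact.mk Nat.prime_three
  have hfac : (Nat.card K).factorization 3 = 5 := by
    rw [card_j3 h, show (50232960 : ℕ) = 3 ^ 5 * 206720 by norm_num,
      Nat.factorization_mul (by norm_num) (by norm_num), Finsupp.add_apply, Nat.prime_three.factorization_pow,
      Finsupp.single_eq_same, Nat.factorization_eq_zero_of_not_dvd (by norm_num)]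
  have hcard : ∀ S : Subgroup K, Nat.card S = 243 → Nat.card S = 3 ^ (Nat.card K).factorization 3 := by
    intro S hS
    rw [hS, hfac]; norm_num
  let S0 : Sylow 3 K := default
  have h1 : {S : Subgroup K | Nat.card S = 243}.ncard ≤ Nat.card (Sylow 3 K) := by
    rw [← Nat.card_coe_set_eq]
    exact Nat.card_le_card_of_injective (fun P : {P : Subgroup K | Nat.card P = 243} =>
      Sylow.ofCard P.1 (hcard P.1 P.2)) fun P P' h => by
        have h1 := congrArg (fun S : Sylow 3 K => (S : Subgroup K)) h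
        exact Subtype.ext h1
  refine h1.trans ?_
  have e : (normalizer ((S0 : Subgroup K) : Set K)).index = Nat.card (Sylow 3 K) := S0.card_eq_index_normalizer.symm
  rw [← e]
  refine index_le_of (card_j3 h) (a := 243) ?_ (by norm_num) (by norm_num)
  have h2 : Nat.card (S0 : Subgroup K) = 243 := by
    rw [S0.card_eq_multiplicity, hfac]; norm_num
  rw [← h2]
  exact Nat.card_le_card_of_injective _ (Subgroup.inclusion_injective le_normalizer)

theorem exists_syl (h : IsoJ3 K) {E : Subgroup K} (hE : IsPGroup 3 E) : ∃ S : Subgroup K, Nat.card S = 243 ∧ E ≤ S := by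
  have := fin_j3 h
  have f3 := Fact.mk Nat.prime_three
  have hfac : (Nat.card K).factorization 3 = 5 := by
    rw [card_j3 h, show (50232960 : ℕ) = 3 ^ 5 * 206720 by norm_num,
      Nat.factorization_mul (by norm_num) (by norm_num), Finsupp.add_apply, Nat.prime_three.factorization_pow,
      Finsupp.single_eq_same, Nat.factorization_eq_zero_of_not_dvd (by norm_num)]
  obtain ⟨S, hS⟩ := hE.exists_le_sylow
  exact ⟨S, by rw [S.card_eq_multiplicity, hfac]; norm_num, hS⟩

theorem T3 (h : IsoJ3 K) : {E : Subgroup K | ElAb 3 E ∧ E ≠ ⊥}.ncard ≤ 5581440 := by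
  classical
  have := fin_j3 h
  have hW := hasW h
  choose! W hW1 hW2 hW3 hW4 using hW
  have h0 : ∀ E ∈ {E : Subgroup K | ElAb 3 E ∧ E ≠ ⊥}, ∃ S : Subgroup K, Nat.card S = 243 ∧ E ≤ S :=
    fun E hE => exists_syl h (elab_isPGroup hE.1)
  choose! S hS1 hS2 using h0
  have h1 : {E : Subgroup K | ElAb 3 E ∧ E ≠ ⊥}.ncard ≤ {p : Subgroup K × Subgroup K |
      p.1 ∈ {S : Subgroup K | Nat.card S = 243} ∧ p.2 ∈ {E : Subgroup K | E ≤ W p.1 ∧ ElAb 3 E ∧ E ≠ ⊥}}.ncard := by
    refine Set.ncard_le_ncard_of_injOn (fun E => (S E, E)) ?_ ?_ (Set.toFinite _)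
    · intro E hE
      refine ⟨hS1 E hE, ?_, hE.1, hE.2⟩
      intro x hx
      exact hW4 _ (hS1 E hE) x (hS2 E hE hx) (hE.1.exp x hx)
    · intro E _ E' _ e
      exact (Prod.mk.injEq _ _ _ _ ▸ e : _ ∧ _).2
  have h2 : {p : Subgroup K × Subgroup K |
      p.1 ∈ {S : Subgroup K | Nat.card S = 243} ∧ p.2 ∈ {E : Subgroup K | E ≤ W p.1 ∧ ElAb 3 E ∧ E ≠ ⊥}}.ncard ≤
      206720 * 27 := by
    refine ncard_sig_le (S := {S : Subgroup K | Nat.card S = 243})
      (R := fun S => {E : Subgroup K | E ≤ W S ∧ ElAb 3 E ∧ E ≠ ⊥}) (card_syl h) fun S hS => ?_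
    refine (ncard_elab_le Nat.prime_three (a := 3) (by rw [hW1 S hS]; norm_num)).trans ?_
    decide
  exact h1.trans (h2.trans (by norm_num))

/-! ### the primes 5, 17, 19 -/

theorem idx5 (h : IsoJ3 K) (P : Subgroup K) (hP : Nat.card P = 5) : (normalizer (P : Set K)).index ≤ 837216 := by
  have := fin_j3 h
  refine index_le_of (card_j3 h) (a := 60) ?_ (by norm_num) (by norm_num)
  have h1 := Cfsg.Agent.H715.Fpr.J3.n5 h P hP
  simp only [List.mem_cons, List.not_mem_nil, or_false] at h1
  rcases h1 with h1 | h1 <;> rw [h1]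
  norm_num

theorem idx17 (h : IsoJ3 K) (P : Subgroup K) (hP : Nat.card P = 17) : (normalizer (P : Set K)).index ≤ 369360 := by
  have := fin_j3 h
  exact index_le_of (card_j3 h) (a := 136) (Cfsg.Agent.H715.Fpr.J3.cn17 h hP).2.ge (by norm_num) (by norm_num)

theorem idx19 (h : IsoJ3 K) (P : Subgroup K) (hP : Nat.card P = 19) : (normalizer (P : Set K)).index ≤ 293760 := by
  have := fin_j3 h
  exact index_le_of (card_j3 h) (a := 171) (Cfsg.Agent.H715.Fpr.J3.cn19 h hP).2.ge (by norm_num) (by norm_num)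

theorem T5 (h : IsoJ3 K) : {E : Subgroup K | ElAb 5 E ∧ E ≠ ⊥}.ncard ≤ 837216 := by
  have := fin_j3 h
  exact ncard_elab_prime (by norm_num) (by rw [card_j3 h]; norm_num) (idx5 h)

theorem T17 (h : IsoJ3 K) : {E : Subgroup K | ElAb 17 E ∧ E ≠ ⊥}.ncard ≤ 369360 := by
  have := fin_j3 h
  exact ncard_elab_prime (by norm_num) (by rw [card_j3 h]; norm_num) (idx17 h)

theorem T19 (h : IsoJ3 K) : {E : Subgroup K | ElAb 19 E ∧ E ≠ ⊥}.ncard ≤ 293760 := by
  have := fin_j3 h
  exact ncard_elab_prime (by norm_num) (by rw [card_j3 h]; norm_num) (idx19 h)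

/-! ### the normalizers have order at least 16 -/

theorem exists_gen {s : ℕ} (hs : s.Prime) {E : Subgroup K} (hE : Nat.card E = s) : ∃ x, orderOf x = s ∧ E = zpowers x := by
  have := Fact.mk hs
  have hfin : Finite E := Nat.finite_of_card_ne_zero (by rw [hE]; exact hs.ne_zero)
  obtain ⟨x, hx⟩ := exists_prime_orderOf_dvd_card' (G := E) s (by rw [hE])
  refine ⟨x, by rw [Subgroup.orderOf_coe, hx], ?_⟩
  symm
  apply Subgroup.eq_of_le_of_card_ge
  · rw [zpowers_le]; exact x.2
  · rw [Nat.card_zpowers, Subgroup.orderOf_coe, hx, hE]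

theorem pow_dvd_norm [Finite K] {s n : ℕ} (hs : s.Prime) {E : Subgroup K} (hE : Nat.card E = s ^ n)
    (hd : s ^ (n + 1) ∣ Nat.card K) : s ^ (n + 1) ∣ Nat.card (normalizer (E : Set K)) := by
  have := Fact.mk hs
  exact Sylow.prime_pow_dvd_card_normalizer hd hE

theorem cent_three_ge (h : IsoJ3 K) {x : K} (hx : orderOf x = 3) : 27 ≤ Nat.card (centralizer ({x} : Set K)) := by
  have := fin_j3 h
  have f3 := Fact.mk Nat.prime_three
  have h1 : IsPGroup 3 (zpowers x) := IsPGroup.of_card (n := 1) (by rw [Nat.card_zpowers, hx, pow_one])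
  obtain ⟨S, hS, hxS⟩ := exists_syl h h1
  obtain ⟨W, hW1, hW2, -, hW4⟩ := hasW h S hS
  have hxW := hW4 x (hxS (mem_zpowers x)) (by rw [← hx, pow_orderOf_eq_one])
  rw [← hW1]
  refine Nat.card_le_card_of_injective _ (Subgroup.inclusion_injective (fun y hy => ?_))
  rw [mem_centralizer_singleton_iff]
  exact hW2 y hy x hxW

theorem index_cent_le {C : Type*} [Group C] [Finite C] (t : C) {S : Set C} (h : ∀ g : C, g * t * g⁻¹ ∈ S) :
    (centralizer ({t} : Set C)).index ≤ S.ncard := by
  rw [← Nat.card_coe_set_eq]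
  refine Nat.card_le_card_of_injective (fun q : C ⧸ centralizer ({t} : Set C) =>
    (⟨q.out * t * q.out⁻¹, h _⟩ : S)) ?_
  intro q q' e
  have h1 : q.out * t * q.out⁻¹ = q'.out * t * q'.out⁻¹ := Subtype.ext_iff.1 e
  have h2 : (q.out)⁻¹ * q'.out ∈ centralizer ({t} : Set C) := by
    rw [mem_centralizer_singleton_iff]
    have h3 : q'.out * t = q.out * t * (q.out)⁻¹ * q'.out := by rw [h1]; group
    rw [mul_assoc, h3]
    group
  have h3 := QuotientGroup.eq.2 h2
  rwa [QuotientGroup.out_eq', QuotientGroup.out_eq'] at h3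

theorem four (h : IsoJ3 K) {E : Subgroup K} (hE : ElAb 2 E) (hc : Nat.card E = 4) :
    16 ≤ Nat.card (normalizer (E : Set K)) := by
  have := fin_j3 h
  have f2 := Fact.mk Nat.prime_two
  have h4 : 4 ∣ Nat.card (normalizer (E : Set K)) := by
    rw [← hc]; exact card_dvd_of_le le_normalizer
  -- two involutions
  have hnt : (E : Set K).Nontrivial := by
    rw [← Set.one_lt_ncard_iff_nontrivial]
    have : (E : Set K).ncard = Nat.card E := rfl
    omega
  obtain ⟨z, hz, hz1⟩ := hnt.exists_ne 1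
  have hex : ∃ t ∈ E, t ∉ ({1, z} : Set K) := by
    by_contra hcon
    push Not at hcon
    have h1 : (E : Set K) ⊆ {1, z} := fun t ht => hcon t ht
    have h2 := Set.ncard_le_ncard h1 (Set.toFinite _)
    have h3 : (E : Set K).ncard = Nat.card E := rfl
    have h4 : ({1, z} : Set K).ncard ≤ 2 := by
      refine (Set.ncard_insert_le _ _).trans ?_
      rw [Set.ncard_singleton]
    omega
  obtain ⟨t, ht, htn⟩ := hex
  simp only [Set.mem_insert_iff, Set.mem_singleton_iff, not_or] at htn
  have hz2 : z ^ 2 = 1 := hE.exp z hz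
  have hC := ((CpAutJThree.base h).2.1 z (orderOf_eq_prime hz2 hz1)).2.1
  have htC : t ∈ centralizer ({z} : Set K) := by rw [mem_centralizer_singleton_iff]; exact hE.comm t ht z hz
  have h1 := index_cent_le (⟨t, htC⟩ : centralizer ({z} : Set K))
    (S := {x : centralizer ({z} : Set K) | (x : K) ^ 2 = 1}) (fun g => by
      show (((g : K) * t * (g : K)⁻¹)) ^ 2 = 1
      rw [conj_pow, hE.exp t ht, mul_one, mul_inv_cancel])
  have h2 : {x : centralizer ({z} : Set K) | (x : K) ^ 2 = 1}.ncard ≤ 152 := by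
    refine le_trans ?_ (ncard_comm h hz2 hz1)
    refine Set.ncard_le_ncard_of_injOn (fun x => (x : K)) ?_ (Subtype.val_injective.injOn) (Set.toFinite _)
    intro x hx
    exact ⟨hx, mem_centralizer_singleton_iff.1 x.2⟩
  have h3 := (centralizer ({(⟨t, htC⟩ : centralizer ({z} : Set K))} : Set (centralizer ({z} : Set K)))).card_mul_index
  rw [hC] at h3
  have h5 : Nat.card (centralizer ({(⟨t, htC⟩ : centralizer ({z} : Set K))} : Set (centralizer ({z} : Set K)))) ≤
      Nat.card (normalizer (E : Set K)) := by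
    refine Nat.card_le_card_of_injective (fun x => (⟨(x.1 : K), ?_⟩ : normalizer (E : Set K))) ?_
    · apply centralizer_le_normalizer
      have hx1 : (x.1 : K) * z = z * x.1 := mem_centralizer_singleton_iff.1 x.1.2
      have hx2 : (x.1 : K) * t = t * x.1 := congrArg Subtype.val (mem_centralizer_singleton_iff.1 x.2)
      have hle : E ≤ centralizer ({(x.1 : K)} : Set K) := by
        have h6 : Nat.card ↥(E ⊓ centralizer ({(x.1 : K)} : Set K)) ∣ 4 := by
          rw [← hc]; exact card_dvd_of_le inf_le_left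
        have h7 : 3 ≤ Nat.card ↥(E ⊓ centralizer ({(x.1 : K)} : Set K)) := by
          have h8 : ({1, z, t} : Set K) ⊆ ((E ⊓ centralizer ({(x.1 : K)} : Set K) : Subgroup K) : Set K) := by
            rintro y (rfl | rfl | rfl)
            · exact one_mem _
            · exact ⟨hz, mem_centralizer_singleton_iff.2 hx1.symm⟩
            · exact ⟨ht, mem_centralizer_singleton_iff.2 hx2.symm⟩
          have h9 := Set.ncard_le_ncard h8 (Set.toFinite _)
          have h10 : ({1, z, t} : Set K).ncard = 3 := by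
            rw [Set.ncard_eq_three]
            exact ⟨1, z, t, hz1.symm, fun h => htn.1 h.symm, fun h => htn.2 h.symm, rfl⟩
          have h11 : ((E ⊓ centralizer ({(x.1 : K)} : Set K) : Subgroup K) : Set K).ncard =
            Nat.card ↥(E ⊓ centralizer ({(x.1 : K)} : Set K)) := rfl
          omega
        have h8 : Nat.card ↥(E ⊓ centralizer ({(x.1 : K)} : Set K)) = Nat.card E := by
          rw [hc]
          have := Nat.le_of_dvd (by norm_num) h6
          interval_cases h12 : Nat.card ↥(E ⊓ centralizer ({(x.1 : K)} : Set K))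
          · norm_num at h6
          · rfl
        exact inf_eq_left.1 (Subgroup.eq_of_le_of_card_ge inf_le_left h8.ge)
      rw [mem_centralizer_iff]
      intro y hy
      exact mem_centralizer_singleton_iff.1 (hle hy)
    · intro x x' e
      have e1 : (x.1 : K) = (x'.1 : K) := congrArg (fun y : normalizer (E : Set K) => (y : K)) e
      exact Subtype.ext (Subtype.ext e1)
  have h6 : (centralizer ({(⟨t, htC⟩ : centralizer ({z} : Set K))} : Set (centralizer ({z} : Set K)))).index ≤ 152 := h1.trans h2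
  have h7 : 1920 ≤ Nat.card (normalizer (E : Set K)) * 152 := by
    rw [← h3]; exact Nat.mul_le_mul h5 h6
  omega

theorem sixteen (h : IsoJ3 K) {s : ℕ} (hs : s.Prime) (hd : s ∣ Nat.card K) {E : Subgroup K} (hE : ElAb s E) (hne : E ≠ ⊥) :
    16 ≤ Nat.card (normalizer (E : Set K)) := by
  have := fin_j3 h
  obtain ⟨m, hm, hcE⟩ := elab_card hs hE hne
  have hEN : Nat.card E ≤ Nat.card (normalizer (E : Set K)) :=
    Nat.card_le_card_of_injective _ (Subgroup.inclusion_injective le_normalizer)
  rw [card_j3 h] at hd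
  rcases Cfsg.Agent.H898.J3Cent.prime_dvd_card hs hd with rfl | rfl | rfl | rfl | rfl
  · -- `s = 2`
    rcases Nat.lt_or_ge m 4 with h4 | h4
    · interval_cases m
      · obtain ⟨x, hx, rfl⟩ := exists_gen hs (hcE.trans (pow_one 2))
        have h1 := ((CpAutJThree.base h).2.1 x hx).2.1
        have h2 : Nat.card (centralizer ({x} : Set K)) ≤ Nat.card (normalizer ((zpowers x : Subgroup K) : Set K)) :=
          Nat.card_le_card_of_injective _ (Subgroup.inclusion_injective (cent_le_norm (s := 2) rfl))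
        omega
      · exact four h hE (hcE.trans (by norm_num))
      · have h1 := Nat.le_of_dvd Nat.card_pos (pow_dvd_norm hs hcE (by rw [card_j3 h]; norm_num))
        omega
    · have h1 : 2 ^ 4 ≤ 2 ^ m := Nat.pow_le_pow_right (by norm_num) h4
      omega
  · rcases Nat.lt_or_ge m 3 with h4 | h4
    · interval_cases m
      · obtain ⟨x, hx, rfl⟩ := exists_gen hs (hcE.trans (pow_one 3))
        have h1 := cent_three_ge h hx
        have h2 : Nat.card (centralizer ({x} : Set K)) ≤ Nat.card (normalizer ((zpowers x : Subgroup K) : Set K)) :=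
          Nat.card_le_card_of_injective _ (Subgroup.inclusion_injective (cent_le_norm (s := 3) rfl))
        omega
      · have h1 := Nat.le_of_dvd Nat.card_pos (pow_dvd_norm hs hcE (by rw [card_j3 h]; norm_num))
        omega
    · have h1 : 3 ^ 3 ≤ 3 ^ m := Nat.pow_le_pow_right (by norm_num) h4
      omega
  · rcases Nat.lt_or_ge m 2 with h4 | h4
    · interval_cases m
      have h1 := Cfsg.Agent.H715.Fpr.J3.n5 h E (hcE.trans (pow_one 5))
      simp only [List.mem_cons, List.not_mem_nil, or_false] at h1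
      omega
    · have h1 : 5 ^ 2 ≤ 5 ^ m := Nat.pow_le_pow_right (by norm_num) h4
      omega
  · have h1 : 17 ^ 1 ≤ 17 ^ m := Nat.pow_le_pow_right (by norm_num) hm
    omega
  · have h1 : 19 ^ 1 ≤ 19 ^ m := Nat.pow_le_pow_right (by norm_num) hm
    omega

end Cfsg.Agent.H296.JT
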