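import Cfsg.Agent.H59.EP.Gal

/-!
# S3499, `J₃`: counting elementary abelian subgroups by the elements of order `s` and those commuting with one of them
(helper296, with helper59's lists)
-/

set_option autoImplicit false

namespace Cfsg.Agent.H296.JT

open Subgroup Cfsg.Agent.H59.EP

variable {B : Type*} [Group B] {s : ℕ}

theorem ncard_LL_top_le [Finite B] (hs : s.Prime) {a c : ℕ} (ha : {x : B | x ^ s = 1 ∧ x ≠ 1}.ncard ≤ a)
    (hc : ∀ y : B, y ^ s = 1 → y ≠ 1 → {x : B | x ^ s = 1 ∧ x * y = y * x}.ncard ≤ c) (j : ℕ) :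
    (LL s (⊤ : Subgroup B) (j + 1)).ncard ≤ a * ∏ i ∈ Finset.range j, (c - s ^ (i + 1)) := by
  induction j with
  | zero =>
    rw [ncard_LL_succ, Finset.prod_range_zero, mul_one]
    have h1 : (LL_finite (s := s) (⊤ : Subgroup B) 0).toFinset = {[]} := by
      ext l
      rw [Set.Finite.mem_toFinset, LL_zero]
      simp
    rw [h1, Finset.sum_singleton]
    refine (Set.ncard_le_ncard ?_ (Set.toFinite _)).trans ha
    rintro x ⟨_, h2, _, h4⟩
    refine ⟨h2, ?_⟩
    rintro rfl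
    exact h4 (one_mem _)
  | succ j ih =>
    rw [ncard_LL_succ, Finset.prod_range_succ, ← mul_assoc]
    refine le_trans (Finset.sum_le_card_nsmul _ _ (c - s ^ (j + 1)) ?_) ?_
    · intro l hl
      rw [Set.Finite.mem_toFinset] at hl
      obtain ⟨h1, h2, h3⟩ := hl
      obtain ⟨h4, h5⟩ := h2.elab hs
      rw [h1] at h5
      cases l with
      | nil => simp at h1
      | cons y l =>
        have hy : y ^ s = 1 := h2.2.1
        have hy1 : y ≠ 1 := by
          rintro rfl
          exact h2.2.2.2 (one_mem _)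
        have hyC : y ∈ closure {z | z ∈ y :: l} := subset_closure (by simp)
        have hle : ((closure {z | z ∈ y :: l} : Subgroup B) : Set B) ⊆ {x : B | x ^ s = 1 ∧ x * y = y * x} :=
          fun x hx => ⟨h4.exp x hx, h4.comm x hx y hyC⟩
        have hsub : XX s (⊤ : Subgroup B) (y :: l) ⊆
            {x : B | x ^ s = 1 ∧ x * y = y * x} \ (closure {z | z ∈ y :: l} : Subgroup B) :=
          fun x hx => ⟨⟨hx.2.1, hx.2.2.1 y List.mem_cons_self⟩, hx.2.2.2⟩
        refine (Set.ncard_le_ncard hsub (Set.toFinite _)).trans ?_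
        rw [Set.ncard_sdiff hle (Set.toFinite _)]
        have e2 : ((closure {z | z ∈ y :: l} : Subgroup B) : Set B).ncard = Nat.card (closure {z | z ∈ y :: l}) := rfl
        rw [e2, h5]
        exact Nat.sub_le_sub_right (hc y hy hy1) _
    · rw [smul_eq_mul, ← Set.ncard_eq_toFinset_card _ (LL_finite _ _)]
      exact Nat.mul_le_mul_right _ ih

/-- the number of elementary abelian subgroups of order `s ^ (j + 1)` -/
theorem ncard_rank_le [Finite B] (hs : s.Prime) {a c : ℕ} (ha : {x : B | x ^ s = 1 ∧ x ≠ 1}.ncard ≤ a)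
    (hc : ∀ y : B, y ^ s = 1 → y ≠ 1 → {x : B | x ^ s = 1 ∧ x * y = y * x}.ncard ≤ c) (j : ℕ) :
    {E : Subgroup B | ElAb s E ∧ Nat.card E = s ^ (j + 1)}.ncard * ∏ i ∈ Finset.range (j + 1), (s ^ (j + 1) - s ^ i) ≤
      a * ∏ i ∈ Finset.range j, (c - s ^ (i + 1)) := by
  classical
  refine le_trans ?_ (ncard_LL_top_le hs ha hc j)
  set 𝓔 := {E : Subgroup B | ElAb s E ∧ Nat.card E = s ^ (j + 1)} with h𝓔
  have hfin : 𝓔.Finite := Set.toFinite _
  have hdis : ∀ E ∈ 𝓔, ∀ l ∈ LL s E (j + 1), closure {y | y ∈ l} = E := by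
    rintro E ⟨h2, h3⟩ l ⟨h4, h5, h6⟩
    have hle : closure {y | y ∈ l} ≤ E := (closure_le _).2 h6
    apply Subgroup.eq_of_le_of_card_ge hle
    rw [(h5.elab hs).2, h4, h3]
  have hbi : (hfin.toFinset.biUnion fun E => (LL_finite (s := s) E (j + 1)).toFinset) ⊆
      (LL_finite (s := s) (⊤ : Subgroup B) (j + 1)).toFinset := by
    intro l hl
    rw [Finset.mem_biUnion] at hl
    obtain ⟨E, hE, hl⟩ := hl
    rw [Set.Finite.mem_toFinset] at hl ⊢
    exact ⟨hl.1, hl.2.1, fun x _ => mem_top x⟩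
  have hcard := Finset.card_le_card hbi
  rw [Finset.card_biUnion] at hcard
  · rw [← Set.ncard_eq_toFinset_card _ (LL_finite _ _)] at hcard
    refine le_trans ?_ hcard
    rw [Set.ncard_eq_toFinset_card _ hfin, ← smul_eq_mul]
    apply Finset.card_nsmul_le_sum
    intro E hE
    rw [Set.Finite.mem_toFinset] at hE
    rw [← Set.ncard_eq_toFinset_card _ (LL_finite _ _)]
    have := le_ncard_LL hs hE.1 (j + 1)
    rwa [hE.2] at this
  · intro E hE E' hE' hne
    rw [Function.onFun, Finset.disjoint_left]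
    intro l hl hl'
    rw [Finset.mem_coe, Set.Finite.mem_toFinset] at hE hE'
    rw [Set.Finite.mem_toFinset] at hl hl'
    apply hne
    rw [← hdis E hE l hl, hdis E' hE' l hl']

theorem elab_card [Finite B] (hs : s.Prime) {E : Subgroup B} (h : ElAb s E) (hne : E ≠ ⊥) :
    ∃ m, 1 ≤ m ∧ Nat.card E = s ^ m := by
  have hfact : Fact s.Prime := ⟨hs⟩
  have hps : IsPGroup s E := by
    rintro ⟨y, hy⟩
    refine ⟨1, Subtype.ext ?_⟩
    rw [pow_one]
    exact h.exp y hy
  obtain ⟨m, hm⟩ := IsPGroup.iff_card.1 hps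
  refine ⟨m, ?_, hm⟩
  rw [Nat.one_le_iff_ne_zero]
  rintro rfl
  apply hne
  rw [← Subgroup.card_eq_one, hm, pow_zero]

/-- union bound -/
theorem ncard_biUnion_le' {α ι : Type*} (I : Finset ι) (f : ι → Set α) :
    (⋃ i ∈ I, f i).ncard ≤ ∑ i ∈ I, (f i).ncard := by
  classical
  induction I using Finset.induction_on with
  | empty => simp
  | insert j I hj ih =>
    rw [Finset.sum_insert hj, Finset.set_biUnion_insert]
    exact (Set.ncard_union_le _ _).trans (Nat.add_le_add_left ih _)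

/-- all elementary abelian subgroups -/
theorem ncard_all_le [Finite B] (hs : s.Prime) {a c m : ℕ} (ha : {x : B | x ^ s = 1 ∧ x ≠ 1}.ncard ≤ a)
    (hc : ∀ y : B, y ^ s = 1 → y ≠ 1 → {x : B | x ^ s = 1 ∧ x * y = y * x}.ncard ≤ c)
    (hm : ¬ s ^ (m + 1) ∣ Nat.card B) :
    {E : Subgroup B | ElAb s E ∧ E ≠ ⊥}.ncard ≤ ∑ j ∈ Finset.range m,
      (a * ∏ i ∈ Finset.range j, (c - s ^ (i + 1))) / ∏ i ∈ Finset.range (j + 1), (s ^ (j + 1) - s ^ i) := by
  have hsub : {E : Subgroup B | ElAb s E ∧ E ≠ ⊥} ⊆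
      ⋃ j ∈ Finset.range m, {E : Subgroup B | ElAb s E ∧ Nat.card E = s ^ (j + 1)} := by
    rintro E ⟨h1, h2⟩
    obtain ⟨k, hk, hE⟩ := elab_card hs h1 h2
    obtain ⟨j, rfl⟩ : ∃ j, k = j + 1 := ⟨k - 1, by omega⟩
    have hj : j < m := by
      by_contra hcon
      apply hm
      have h3 : s ^ (m + 1) ∣ s ^ (j + 1) := pow_dvd_pow s (by omega)
      rw [← hE] at h3
      exact h3.trans (card_subgroup_dvd_card E)
    simp only [Set.mem_iUnion]
    exact ⟨j, Finset.mem_range.2 hj, h1, hE⟩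
  refine (Set.ncard_le_ncard hsub (Set.toFinite _)).trans ((ncard_biUnion_le' _ _).trans ?_)
  refine Finset.sum_le_sum fun j _ => ?_
  rw [Nat.le_div_iff_mul_le]
  · exact ncard_rank_le hs ha hc j
  · apply Finset.prod_pos
    intro i hi
    rw [Finset.mem_range] at hi
    have := Nat.pow_lt_pow_right hs.one_lt hi
    omega

end Cfsg.Agent.H296.JT
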