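import Cfsg.Agent.H296.JT.El
import Cfsg.Agent.H305.OddJ3
import Cfsg.Agent.H59.EP.Count

/-!
# S3499, `J₃`: the elements of order 5 (helper296)
-/

set_option autoImplicit false
set_option linter.unusedSectionVars false
set_option linter.unusedVariables false

namespace Cfsg.Agent.H296.JT

open Subgroup Cfsg Cfsg.Spor Cfsg.Agent.J3Type.OneClass

/-- two commuting elements of order 3 -/
theorem nine_dvd {X : Type*} [Group X] [Finite X] {a b : X} (ha : orderOf a = 3) (hb : orderOf b = 3)
    (hab : b * a = a * b) (hne : b ∉ zpowers a) : 9 ∣ Nat.card X := by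
  have haC : a ∈ centralizer ({a} : Set X) := mem_centralizer_singleton_iff.2 rfl
  have hbC : b ∈ centralizer ({a} : Set X) := mem_centralizer_singleton_iff.2 hab
  set C := centralizer ({a} : Set X) with hC
  let a' : C := ⟨a, haC⟩
  let b' : C := ⟨b, hbC⟩
  have hn : (zpowers a').Normal := by
    constructor
    rintro n ⟨k, rfl⟩ g
    refine ⟨k, ?_⟩
    have h1 : Commute g a' := Subtype.ext (mem_centralizer_singleton_iff.1 g.2)
    have := h1.zpow_right k
    show a' ^ k = g * a' ^ k * g⁻¹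
    rw [this.eq]; group
  have ha3 : Nat.card (zpowers a') = 3 := by rw [Nat.card_zpowers]; exact (orderOf_mk _ _).trans ha
  have hb3 : Nat.card (zpowers b') = 3 := by rw [Nat.card_zpowers]; exact (orderOf_mk _ _).trans hb
  have hinf : zpowers b' ⊓ zpowers a' = ⊥ := by
    have h1 : Nat.card ↥(zpowers b' ⊓ zpowers a') ∣ 3 := by rw [← hb3]; exact card_dvd_of_le inf_le_left
    rcases (Nat.dvd_prime Nat.prime_three).1 h1 with h2 | h2
    · exact Subgroup.card_eq_one.1 h2
    · exfalso
      have h3 : zpowers b' ⊓ zpowers a' = zpowers b' := Subgroup.eq_of_le_of_card_ge inf_le_left (by rw [h2, hb3])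
      have h4 : b' ∈ zpowers a' := by
        have h5 : b' ∈ zpowers b' ⊓ zpowers a' := by rw [h3]; exact mem_zpowers _
        exact h5.2
      obtain ⟨k, hk⟩ := h4
      exact hne ⟨k, congrArg Subtype.val hk⟩
  have h1 := Cfsg.Agent.H59.EP.card_mul_dvd hinf
  rw [ha3, hb3] at h1
  exact h1.trans (card_subgroup_dvd_card C)

variable {K : Type} [Group K]

theorem not_90 (h : IsoJ3 K) {y : K} (hy : orderOf y = 5) : ¬ 9 ∣ Nat.card (centralizer ({y} : Set K)) := by
  intro hd
  have := fin_j3 h
  have f3 := Fact.mk Nat.prime_three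
  obtain ⟨hcard, hM, hone, -⟩ := CpAutJThree.base h
  obtain ⟨Q, hQ⟩ := Sylow.exists_subgroup_card_pow_prime (G := centralizer ({y} : Set K)) 3 (n := 2) (by simpa using hd)
  have hQc : ∀ a b : Q, a * b = b * a := (IsPGroup.isMulCommutative_of_card_eq_prime_sq hQ).is_comm.comm
  obtain ⟨x, hx⟩ := exists_prime_orderOf_dvd_card' (G := Q) 3 (by rw [hQ]; norm_num)
  have hx' : orderOf ((x : centralizer ({y} : Set K)) : K) = 3 := by rw [Subgroup.orderOf_coe, Subgroup.orderOf_coe, hx]
  obtain ⟨w, hw⟩ : ∃ w : Q, w ∉ zpowers x := by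
    by_contra hcon
    push Not at hcon
    have h1 : zpowers x = ⊤ := by rw [eq_top_iff]; intro w _; exact hcon w
    have h2 := Nat.card_zpowers x
    rw [h1, card_top, hQ, hx] at h2
    norm_num at h2
  set c : K := ((x : centralizer ({y} : Set K)) : K) with hc
  have hxy : c * y = y * c := mem_centralizer_singleton_iff.1 x.1.2
  have hwy : (w.1.1 : K) * y = y * w.1.1 := mem_centralizer_singleton_iff.1 w.1.2
  have hwc : (w.1.1 : K) * c = c * w.1.1 := congrArg Subtype.val (congrArg Subtype.val (hQc w x))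
  obtain ⟨t, ht, htc⟩ := H305.OddJ3.even_of_five h hx' hy hxy
  have hCc : Nat.card (centralizer ({c} : Set K)) = 1080 := by
    rcases H305.OddJ3.cent_three h hx' with h1 | h1
    · exact h1
    · exfalso
      have h2 : 2 ∣ Nat.card (centralizer ({c} : Set K)) := by
        rw [← ht]; exact Subgroup.orderOf_dvd_natCard _ (mem_centralizer_singleton_iff.2 htc)
      have := h2.trans h1
      norm_num at this
  have memC : ∀ a : K, a ∈ centralizer ({c} : Set K) ↔ a * c = c * a := fun a => mem_centralizer_singleton_iff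
  let d : centralizer ({c} : Set K) := ⟨c, (memC c).2 rfl⟩
  have hd3 : orderOf d = 3 := by rw [← hx']; exact orderOf_mk _ _
  have hdd : ∀ a : centralizer ({c} : Set K), a * d = d * a := fun a => Subtype.ext ((memC a).1 a.2)
  have hZn : (zpowers d).Normal := by
    constructor
    rintro n ⟨k, rfl⟩ g
    refine ⟨k, ?_⟩
    have h1 : Commute g d := hdd g
    have := h1.zpow_right k
    show d ^ k = g * d ^ k * g⁻¹
    rw [this.eq]; group
  have hHD8 := J3Type.Extra.hd8_quotient d hd3 hdd (CpAutJThree.hD_of_model hM hx')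
  have hq : Nat.card (↥(centralizer ({c} : Set K)) ⧸ zpowers d) = 360 := by
    have := card_eq_card_quotient_mul_card_subgroup (zpowers d)
    rw [hCc, Nat.card_zpowers, hd3] at this
    omega
  have f2 := Fact.mk Nat.prime_two
  obtain ⟨s', hs'⟩ := exists_prime_orderOf_dvd_card' (G := ↥(centralizer ({c} : Set K)) ⧸ zpowers d) 2
    (by rw [hq]; norm_num)
  have hsim := J3Type.Extra.isSimple hHD8 hs'
  let W : centralizer ({c} : Set K) := ⟨w.1.1, (memC _).2 hwc⟩
  let Y : centralizer ({c} : Set K) := ⟨y, (memC y).2 hxy.symm⟩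
  have hYo : orderOf Y = 5 := by rw [← hy]; exact orderOf_mk _ _
  let π := QuotientGroup.mk' (zpowers d)
  have hWd : W ∉ zpowers d := by
    rintro ⟨k, hk⟩
    apply hw
    refine ⟨k, ?_⟩
    have h3 : c ^ k = (w.1.1 : K) := congrArg Subtype.val hk
    apply Subtype.ext
    apply Subtype.ext
    show (c : K) ^ k = _
    exact h3
  have hYd : Y ∉ zpowers d := by
    intro hYd
    have h1 := Subgroup.orderOf_dvd_natCard (zpowers d) hYd
    rw [hYo, Nat.card_zpowers, hd3] at h1
    norm_num at h1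
  have hπY : orderOf (π Y) = 5 := by
    have h1 : orderOf (π Y) ∣ 5 := by rw [← hYo]; exact orderOf_map_dvd π Y
    rcases (Nat.dvd_prime Nat.prime_five).1 h1 with h2 | h2
    · exact absurd ((QuotientGroup.eq_one_iff _).1 (orderOf_eq_one_iff.1 h2)) hYd
    · exact h2
  have hW9 : W ^ 9 = 1 := by
    have h1 : w ^ 9 = 1 := by
      have := pow_card_eq_one' (x := w)
      rw [hQ] at this
      simpa using this
    apply Subtype.ext
    exact congrArg (fun z : Q => ((z : centralizer ({y} : Set K)) : K)) h1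
  have hπW1 : π W ≠ 1 := fun h1 => hWd ((QuotientGroup.eq_one_iff _).1 h1)
  have hπW : 3 ∣ Nat.card (zpowers (π W)) := by
    rw [Nat.card_zpowers]
    have h1 : orderOf (π W) ∣ 3 ^ 2 := orderOf_dvd_of_pow_eq_one (by
      rw [← map_pow]
      show π (W ^ 9) = 1
      rw [hW9, map_one])
    obtain ⟨k, hk, hk'⟩ := (Nat.dvd_prime_pow Nat.prime_three).1 h1
    rw [hk']
    refine dvd_pow_self 3 ?_
    rintro rfl
    rw [pow_zero, orderOf_eq_one_iff] at hk'
    exact hπW1 hk'
  obtain ⟨u, hu⟩ := exists_prime_orderOf_dvd_card' (G := zpowers (π W)) 3 hπW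
  have hu' : orderOf (u : ↥(centralizer ({c} : Set K)) ⧸ zpowers d) = 3 := by rw [Subgroup.orderOf_coe, hu]
  refine H305.OddJ3.not_comm_360 hq hu' hπY ?_
  obtain ⟨k, hk⟩ := u.2
  have h1 : Commute (π W) (π Y) := by
    show π W * π Y = π Y * π W
    rw [← map_mul, ← map_mul]
    congr 1
    exact Subtype.ext hwy
  have h2 := h1.zpow_left k
  have h3 : (π W) ^ k = u := hk
  rw [h3] at h2
  exact h2.eq

/-- **the elements of order 5** -/
theorem cn5 (h : IsoJ3 K) {x : K} (hx : orderOf x = 5) :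
    Nat.card (centralizer ({x} : Set K)) = 30 ∧ Nat.card (normalizer ((zpowers x : Subgroup K) : Set K)) = 60 := by
  have h1 := Cfsg.Agent.H715.Fpr.J3.cn5 h (R := zpowers x) (by rw [Nat.card_zpowers, hx])
  rw [Cfsg.Agent.H898.J3Cent.centralizer_zpowers] at h1
  rcases h1 with h1 | ⟨h1, -⟩ | ⟨h1, -⟩
  · exact h1
  · exact absurd (by rw [h1]; norm_num) (not_90 h hx)
  · exact absurd (by rw [h1]; norm_num) (not_90 h hx)

theorem ncard_five (h : IsoJ3 K) : {x : K | orderOf x = 5}.ncard ≤ 3348864 := by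
  have := fin_j3 h
  have h0 : {P : Subgroup K | Nat.card P = 5}.ncard ≤ 837216 :=
    ncard_sub_le (by norm_num) (by rw [card_j3 h]; norm_num) (idx5 h)
  have h1 : {x : K | orderOf x = 5}.ncard ≤ {p : Subgroup K × K | p.1 ∈ {P : Subgroup K | Nat.card P = 5} ∧
      p.2 ∈ {x : K | x ∈ p.1 ∧ x ≠ 1}}.ncard := by
    refine Set.ncard_le_ncard_of_injOn (fun x => (zpowers x, x)) ?_ ?_ (Set.toFinite _)
    · intro x hx
      have hx' : orderOf x = 5 := hx
      refine ⟨?_, mem_zpowers x, ?_⟩
      · show Nat.card (zpowers x) = 5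
        rw [Nat.card_zpowers, hx']
      · rintro rfl
        rw [orderOf_one] at hx'
        norm_num at hx'
    · intro x _ x' _ e
      exact (Prod.mk.injEq _ _ _ _ ▸ e : _ ∧ _).2
  have h2 : {p : Subgroup K × K | p.1 ∈ {P : Subgroup K | Nat.card P = 5} ∧
      p.2 ∈ {x : K | x ∈ p.1 ∧ x ≠ 1}}.ncard ≤ 837216 * 4 := by
    refine ncard_sig_le (S := {P : Subgroup K | Nat.card P = 5}) (R := fun P => {x : K | x ∈ P ∧ x ≠ 1}) h0
      fun P hP => ?_
    have hP' : Nat.card P = 5 := hP
    have h3 : {x : K | x ∈ P ∧ x ≠ 1} = (P : Set K) \ {1} := by ext x; simp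
    rw [h3, Set.ncard_sdiff_singleton_of_mem P.one_mem]
    have h4 : (P : Set K).ncard = Nat.card P := rfl
    omega
  exact h1.trans (h2.trans (by norm_num))

/-- the elements inverting an element -/
theorem ncard_inverting {K : Type*} [Group K] [Finite K] (x : K) : {t : K | t * x * t⁻¹ = x⁻¹}.ncard ≤
    Nat.card (centralizer ({x} : Set K)) := by
  rcases Set.eq_empty_or_nonempty {t : K | t * x * t⁻¹ = x⁻¹} with h0 | ⟨t0, ht0⟩
  · rw [h0, Set.ncard_empty]; exact Nat.zero_le _
  · have ht0' : t0 * x * t0⁻¹ = x⁻¹ := ht0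
    have e : Nat.card (centralizer ({x} : Set K)) = (centralizer ({x} : Set K) : Set K).ncard := rfl
    rw [e]
    refine Set.ncard_le_ncard_of_injOn (fun t => t0⁻¹ * t) ?_ ?_ (Set.toFinite _)
    · intro t ht
      have ht' : t * x * t⁻¹ = x⁻¹ := ht
      rw [SetLike.mem_coe, mem_centralizer_singleton_iff]
      have h1 : t * x = t0 * x * t0⁻¹ * t := by rw [ht0', ← ht']; group
      rw [mul_assoc, h1]
      group
    · intro t _ t' _ e
      exact mul_left_cancel e

end Cfsg.Agent.H296.JT
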