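import Cfsg.Agent.SmallSimple.Embed
import Cfsg.Agent.H836.Sylow

/-!
# S3499, `J₃`: generating pairs and counting (helper296)
-/

set_option autoImplicit false

namespace Cfsg.Agent.H296.JT

open Subgroup

section sets

variable {α β : Type*} [Finite α] [Finite β]

theorem ncard_sig_eq (S : Set α) (R : α → Set β) :
    {p : α × β | p.1 ∈ S ∧ p.2 ∈ R p.1}.ncard = ∑ s ∈ (Set.toFinite S).toFinset, (R s).ncard := by
  classical
  have e : {p : α × β | p.1 ∈ S ∧ p.2 ∈ R p.1} = (fun p : Σ _ : α, β => (p.1, p.2)) ''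
      (((Set.toFinite S).toFinset.sigma fun l => (Set.toFinite (R l)).toFinset : Finset (Σ _ : α, β)) :
        Set (Σ _ : α, β)) := by
    ext ⟨a, b⟩
    simp
  rw [e, Set.ncard_image_of_injective _ (by
    rintro ⟨a, b⟩ ⟨a', b'⟩ h
    simp only [Prod.mk.injEq] at h
    obtain ⟨rfl, rfl⟩ := h
    rfl), Set.ncard_coe_finset, Finset.card_sigma]
  apply Finset.sum_congr rfl
  intro l _
  rw [← Set.ncard_eq_toFinset_card]

theorem le_ncard_sig {S : Set α} {R : α → Set β} {a b : ℕ} (ha : a ≤ S.ncard) (hb : ∀ s ∈ S, b ≤ (R s).ncard) :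
    a * b ≤ {p : α × β | p.1 ∈ S ∧ p.2 ∈ R p.1}.ncard := by
  rw [ncard_sig_eq]
  refine le_trans ?_ (Finset.card_nsmul_le_sum _ _ b fun s hs => hb s ((Set.Finite.mem_toFinset _).1 hs))
  rw [smul_eq_mul, ← Set.ncard_eq_toFinset_card S]
  exact Nat.mul_le_mul_right _ ha

theorem ncard_sig_le {S : Set α} {R : α → Set β} {a b : ℕ} (ha : S.ncard ≤ a) (hb : ∀ s ∈ S, (R s).ncard ≤ b) :
    {p : α × β | p.1 ∈ S ∧ p.2 ∈ R p.1}.ncard ≤ a * b := by
  rw [ncard_sig_eq]
  refine le_trans (Finset.sum_le_card_nsmul _ _ b fun s hs => hb s ((Set.Finite.mem_toFinset _).1 hs)) ?_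
  rw [smul_eq_mul, ← Set.ncard_eq_toFinset_card S]
  exact Nat.mul_le_mul_right _ ha

/-- fibres -/
theorem mul_ncard_le {γ : Type*} [Finite γ] (𝒮 : Set γ) (T : Set α) (f : α → γ) (k : ℕ)
    (h : ∀ X ∈ 𝒮, k ≤ {t : α | t ∈ T ∧ f t = X}.ncard) : 𝒮.ncard * k ≤ T.ncard := by
  refine (le_ncard_sig (S := 𝒮) (R := fun X => {t : α | t ∈ T ∧ f t = X}) le_rfl h).trans ?_
  refine Set.ncard_le_ncard_of_injOn (fun p => p.2) ?_ ?_ (Set.toFinite _)
  · rintro ⟨X, t⟩ ⟨_, h2, _⟩
    exact h2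
  · rintro ⟨X, t⟩ ⟨_, _, h3⟩ ⟨Y, t'⟩ ⟨_, _, h3'⟩ e
    have e' : t = t' := e
    subst e'
    have h3 : f t = X := h3
    have h3' : f t = Y := h3'
    rw [← h3, ← h3']

end sets

section simple

variable {X : Type*} [Group X] [Finite X]

theorem le_index [IsSimpleGroup X] (hX : ¬ IsMulCommutative X) {p : ℕ} (hp : p.Prime) (hd : p ∣ Nat.card X)
    {H : Subgroup X} (hH : H ≠ ⊤) : p ≤ H.index :=
  (hp.dvd_factorial).1 ((hd.mul_left 2).trans (Cfsg.Agent.SmallSimple.Embed.two_mul_card_dvd_factorial_index hX H hH))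

/-- the number of Sylow subgroups -/
theorem card_norm {p : ℕ} (hp : p.Prime) (h2 : ¬ p ^ 2 ∣ Nat.card X) {P : Subgroup X} (hP : Nat.card P = p) :
    ∃ n, n % p = 1 ∧ Nat.card X = Nat.card ↥(normalizer (P : Set X)) * n := by
  obtain ⟨n, k, h1, _, h3, h4⟩ := Cfsg.Agent.H836.Sylow.card_normalizer hp h2 hP
  exact ⟨n, h1, by rw [h4, h3]⟩

theorem gen_of_not_norm [IsSimpleGroup X] (hX : ¬ IsMulCommutative X) {p : ℕ} (hp : p.Prime) (hd : p ∣ Nat.card X)
    (h2 : ¬ p ^ 2 ∣ Nat.card X) (hlt : Nat.card X < p ^ 2 * (p + 1)) {P : Subgroup X} (hP : Nat.card P = p)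
    {H : Subgroup X} (hPH : P ≤ H) {y : X} (hyH : y ∈ H) (hy : y ∉ normalizer (P : Set X)) : H = ⊤ := by
  by_contra hne
  have h1 := le_index hX hp hd hne
  have hP' : Nat.card (P.subgroupOf H) = p := by
    rw [Nat.card_congr (Subgroup.subgroupOfEquivOfLe hPH).toEquiv, hP]
  have h2' : ¬ p ^ 2 ∣ Nat.card H := fun h => h2 (h.trans (card_subgroup_dvd_card H))
  obtain ⟨n, hn, hc⟩ := card_norm hp h2' hP'
  have h3 : p ≤ Nat.card ↥(normalizer ((P.subgroupOf H : Subgroup H) : Set H)) := by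
    rw [← hP']
    exact Nat.card_le_card_of_injective _ (Subgroup.inclusion_injective (le_normalizer (H := P.subgroupOf H)))
  have h4 : n ≠ 1 := by
    rintro rfl
    rw [mul_one] at hc
    have h5 : normalizer ((P.subgroupOf H : Subgroup H) : Set H) = ⊤ := Subgroup.eq_top_of_card_eq _ hc.symm
    apply hy
    have h6 : (⟨y, hyH⟩ : H) ∈ normalizer ((P.subgroupOf H : Subgroup H) : Set H) := by rw [h5]; exact mem_top _
    rw [mem_normalizer_iff] at h6 ⊢
    intro z
    by_cases hz : z ∈ H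
    · exact h6 ⟨z, hz⟩
    · refine ⟨fun h => absurd (hPH h) hz, fun h => ?_⟩
      exfalso
      apply hz
      have h7 := H.mul_mem (H.mul_mem (H.inv_mem hyH) (hPH h)) hyH
      have e : y⁻¹ * (y * z * y⁻¹) * y = z := by group
      rwa [e] at h7
  have h5 : p + 1 ≤ n := by
    have h6 := hp.two_le
    by_contra hcon
    push Not at hcon
    rcases Nat.lt_or_ge n p with h7 | h7
    · rw [Nat.mod_eq_of_lt h7] at hn
      exact h4 hn
    · have : n = p := by omega
      rw [this, Nat.mod_self] at hn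
      omega
  have h6 : p * (p + 1) ≤ Nat.card H := by rw [hc]; exact Nat.mul_le_mul h3 h5
  have h7 := H.card_mul_index
  have h8 : p * (p + 1) * p ≤ Nat.card X := by rw [← h7]; exact Nat.mul_le_mul h6 h1
  have e : p * (p + 1) * p = p ^ 2 * (p + 1) := by ring
  omega

/-- subgroups of order `p` -/
theorem le_ncard_sub {p n : ℕ} (hp : p.Prime) (hd : p ∣ Nat.card X) (h2 : ¬ p ^ 2 ∣ Nat.card X)
    (hn : ∀ P : Subgroup X, Nat.card P = p → n ≤ (normalizer (P : Set X)).index) :
    n ≤ {P : Subgroup X | Nat.card P = p}.ncard := by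
  have := Fact.mk hp
  have hc : ∀ P : Sylow p X, Nat.card (P : Subgroup X) = p := by
    intro P
    rw [P.card_eq_multiplicity]
    have h0 : Nat.card X ≠ 0 := Nat.card_pos.ne'
    have h3 : 1 ≤ (Nat.card X).factorization p := (hp.dvd_iff_one_le_factorization h0).1 hd
    have h4 : (Nat.card X).factorization p < 2 := by
      by_contra h4
      exact h2 ((hp.pow_dvd_iff_le_factorization h0).2 (not_lt.1 h4))
    have h5 : (Nat.card X).factorization p = 1 := by omega
    rw [h5, pow_one]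
  let P0 : Sylow p X := default
  refine (hn P0 (hc P0)).trans ?_
  have e : (normalizer ((P0 : Subgroup X) : Set X)).index = Nat.card (Sylow p X) :=
    P0.card_eq_index_normalizer.symm
  rw [e, ← Nat.card_coe_set_eq]
  exact Nat.card_le_card_of_injective (fun P : Sylow p X => (⟨(P : Subgroup X), hc P⟩ : {P : Subgroup X | Nat.card P = p}))
    fun P P' h => Sylow.ext (Subtype.ext_iff.1 h)

end simple

/-- all subgroups of order `p` are conjugate, hence their number is at most the index of the normalizer -/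
theorem ncard_sub_le {K : Type*} [Group K] [Finite K] {p c : ℕ} (hp : p.Prime) (h2 : ¬ p ^ 2 ∣ Nat.card K)
    (hc : ∀ P : Subgroup K, Nat.card P = p → (normalizer (P : Set K)).index ≤ c) :
    {P : Subgroup K | Nat.card P = p}.ncard ≤ c := by
  have := Fact.mk hp
  rcases Set.eq_empty_or_nonempty {P : Subgroup K | Nat.card P = p} with h | ⟨P0, hP0⟩
  · rw [h, Set.ncard_empty]
    exact Nat.zero_le _
  · refine le_trans ?_ (hc P0 hP0)
    let S0 : Sylow p K := Sylow.ofCard P0 (Cfsg.Agent.H836.Sylow.card_pow_fact hp h2 hP0)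
    have e : (S0 : Subgroup K) = P0 := rfl
    rw [show (normalizer (P0 : Set K)).index = Nat.card (Sylow p K) from S0.card_eq_index_normalizer.symm,
      ← Nat.card_coe_set_eq]
    exact Nat.card_le_card_of_injective (fun P : {P : Subgroup K | Nat.card P = p} =>
      Sylow.ofCard P.1 (Cfsg.Agent.H836.Sylow.card_pow_fact hp h2 P.2)) fun P P' h => by
        have h1 := congrArg (fun S : Sylow p K => (S : Subgroup K)) h
        exact Subtype.ext h1

end Cfsg.Agent.H296.JT
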