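import Cfsg.Agent.CpAutJThree.Row
import Cfsg.Agent.H296.JT.Simp

/-!
# S3499, `J₃`: involutions (helper296)

`ncard_inv`: 26163 involutions; `ncard_comm`: at most 151 involutions in the centralizer of an involution.
-/

set_option autoImplicit false

namespace Cfsg.Agent.H296.JT

open Subgroup Cfsg Cfsg.Spor Cfsg.Agent.J3Type.OneClass Cfsg.Agent.J2Type.Model

variable {K : Type*} [Group K]

theorem card_j3 (h : IsoJ3 K) : Nat.card K = 50232960 := (CpAutJThree.base h).1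

theorem fin_j3 (h : IsoJ3 K) : Finite K := Nat.finite_of_card_ne_zero (by rw [card_j3 h]; decide)

/-- the conjugates of an element -/
theorem ncard_conj_el [Finite K] (t : K) : {x : K | IsConj t x}.ncard ≤ (centralizer ({t} : Set K)).index := by
  classical
  have hg : ∀ x : {x : K | IsConj t x}, ∃ g : K, g * t * g⁻¹ = x := fun x => isConj_iff.1 x.2
  choose g hg using hg
  rw [← Nat.card_coe_set_eq]
  refine Nat.card_le_card_of_injective (fun x => ((g x : K) : K ⧸ centralizer ({t} : Set K))) ?_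
  intro x y hxy
  apply Subtype.ext
  have h1 := QuotientGroup.eq.1 hxy
  rw [mem_centralizer_singleton_iff] at h1
  rw [← hg x, ← hg y]
  have h2 : g y * t * (g y)⁻¹ = g x * ((g x)⁻¹ * g y * t) * (g y)⁻¹ := by group
  rw [h2, h1]
  group

theorem index_cent [Finite K] {t : K} {a b : ℕ} (hK : Nat.card K = a * b) (hc : Nat.card (centralizer ({t} : Set K)) = a)
    (ha : 0 < a) : (centralizer ({t} : Set K)).index = b := by
  have h := (centralizer ({t} : Set K)).card_mul_index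
  rw [hK, hc] at h
  exact Nat.eq_of_mul_eq_mul_left ha h

theorem ncard_inv (h : IsoJ3 K) : {x : K | x ^ 2 = 1 ∧ x ≠ 1}.ncard ≤ 26163 := by
  have := fin_j3 h
  obtain ⟨hcard, hM, hone, -⟩ := CpAutJThree.base h
  have f2 := Fact.mk Nat.prime_two
  obtain ⟨t, ht⟩ := exists_prime_orderOf_dvd_card' (G := K) 2 (by rw [hcard]; norm_num)
  have hi := index_cent (a := 1920) (b := 26163) (by rw [hcard]) (hM t ht).2.1 (by norm_num)
  rw [← hi]
  refine (Set.ncard_le_ncard ?_ (Set.toFinite _)).trans (ncard_conj_el t)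
  rintro x ⟨h1, h2⟩
  exact hone t x ht (orderOf_eq_prime h1 h2)

/-- the involutions of the signed permutation group -/
@[irreducible] def SS : Finset (Equiv.Perm (Fin 5) × (Fin 5 → ZMod 2)) := Finset.univ.filter (fun p =>
    p.1 * p.1 = 1 ∧ Equiv.Perm.sign p.1 = 1 ∧ ∑ i, p.2 i = 0 ∧ ∀ i, p.2 i + p.2 (p.1 i) = 0)

theorem cnt : SS.card = 76 := by decide +kernel

theorem mem_SS (p : Equiv.Perm (Fin 5) × (Fin 5 → ZMod 2)) : p ∈ SS ↔
    (p.1 * p.1 = 1 ∧ Equiv.Perm.sign p.1 = 1 ∧ ∑ i, p.2 i = 0 ∧ ∀ i, p.2 i + p.2 (p.1 i) = 0) := by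
  unfold SS
  rw [Finset.mem_filter]
  simp only [Finset.mem_univ, true_and]

theorem mem_SS_of {g : SP} (h1 : g * g = 1) (h2 : Equiv.Perm.sign g.σ = 1 ∧ ∑ i, g.s i = 0) : (g.σ, g.s) ∈ SS := by
  rw [mem_SS]
  refine ⟨congrArg SP.σ h1, h2.1, h2.2, fun i => ?_⟩
  exact congrFun (congrArg SP.s h1) i

/-- the elements of order at most 2 in the centralizer of an involution -/
theorem ncard_comm_aux [Finite K] {y : K} {Q : Subgroup (centralizer ({y} : Set K))}
    {v : Fin 5 → centralizer ({y} : Set K)} {ρ : centralizer ({y} : Set K) →* SP} (M : IsModel Q (zc y) v ρ) :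
    {x : K | x ^ 2 = 1 ∧ x * y = y * x}.ncard ≤ 152 := by
  classical
  have hmem : ∀ c : centralizer ({y} : Set K), (c : K) ^ 2 = 1 → ((ρ c).σ, (ρ c).s) ∈ SS := by
    intro c hc
    have hc2 : c * c = 1 := Subtype.ext (by
      show (c : K) * c = 1
      rw [← pow_two, hc])
    have h1 : ρ c * ρ c = 1 := by rw [← map_mul, hc2, map_one]
    exact mem_SS_of h1 ((M.range (ρ c)).1 ⟨c, rfl⟩)
  -- injection into `S × K`
  have hle : {x : K | x ^ 2 = 1 ∧ x * y = y * x}.ncard ≤ {p : (Equiv.Perm (Fin 5) × (Fin 5 → ZMod 2)) × K |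
      p.1 ∈ (SS : Set (Equiv.Perm (Fin 5) × (Fin 5 → ZMod 2))) ∧
        p.2 ∈ {x : K | ∃ hx : x ∈ centralizer ({y} : Set K), x ^ 2 = 1 ∧ ((ρ ⟨x, hx⟩).σ, (ρ ⟨x, hx⟩).s) = p.1}}.ncard := by
    have hxC : ∀ x ∈ {x : K | x ^ 2 = 1 ∧ x * y = y * x}, x ∈ centralizer ({y} : Set K) := fun x hx => by
      rw [mem_centralizer_singleton_iff]
      exact hx.2
    refine Set.ncard_le_ncard_of_injOn (fun x => if hx : x ∈ centralizer ({y} : Set K) then
      (((ρ ⟨x, hx⟩).σ, (ρ ⟨x, hx⟩).s), x) else ((1, 0), x)) ?_ ?_ (Set.toFinite _)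
    · intro x hx
      have h1 := hxC x hx
      simp only [h1, dif_pos]
      have h2 := Finset.mem_coe.2 (hmem ⟨x, h1⟩ hx.1)
      exact And.intro h2 ⟨h1, hx.1, rfl⟩
    · intro x hx x' hx' e
      have h1 := hxC x hx
      have h1' := hxC x' hx'
      simp only [h1, h1', dif_pos, Prod.mk.injEq] at e
      exact e.2
  refine hle.trans ?_
  have hS : (SS : Set (Equiv.Perm (Fin 5) × (Fin 5 → ZMod 2))).ncard ≤ 76 := by
    rw [Set.ncard_coe_finset]
    exact cnt.le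
  refine (ncard_sig_le (α := Equiv.Perm (Fin 5) × (Fin 5 → ZMod 2)) (β := K)
    (S := (SS : Set (Equiv.Perm (Fin 5) × (Fin 5 → ZMod 2))))
    (R := fun s => {x : K | ∃ hx : x ∈ centralizer ({y} : Set K), x ^ 2 = 1 ∧ ((ρ ⟨x, hx⟩).σ, (ρ ⟨x, hx⟩).s) = s})
    (b := 2) hS ?_)
  intro s _
  rcases Set.eq_empty_or_nonempty {x : K | ∃ hx : x ∈ centralizer ({y} : Set K), x ^ 2 = 1 ∧
    ((ρ ⟨x, hx⟩).σ, (ρ ⟨x, hx⟩).s) = s} with h0 | ⟨x0, hx0, -, e0⟩
  · rw [h0, Set.ncard_empty]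
    norm_num
  · refine (Set.ncard_le_ncard (t := {x0, x0 * y}) ?_ (Set.toFinite _)).trans ?_
    · rintro x ⟨hx, -, e⟩
      rw [← e0, Prod.mk.injEq] at e
      have h1 : ρ ⟨x, hx⟩ = ρ ⟨x0, hx0⟩ := SP.ext e.1 e.2
      have h2 : ρ (⟨x0, hx0⟩⁻¹ * ⟨x, hx⟩) = 1 := by rw [map_mul, map_inv, h1, inv_mul_cancel]
      rcases (M.ker _).1 h2 with h3 | h3
      · left
        have h4 : x0⁻¹ * x = 1 := Subtype.ext_iff.1 h3
        rw [inv_mul_eq_one] at h4
        exact h4.symm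
      · right
        have h4 : x0⁻¹ * x = y := Subtype.ext_iff.1 h3
        rw [inv_mul_eq_iff_eq_mul] at h4
        exact h4
    · refine (Set.ncard_insert_le _ _).trans ?_
      rw [Set.ncard_singleton]

/-- the elements of order at most 2 in the centralizer of an involution -/
theorem ncard_comm (h : IsoJ3 K) {y : K} (hy : y ^ 2 = 1) (hy1 : y ≠ 1) : {x : K | x ^ 2 = 1 ∧ x * y = y * x}.ncard ≤ 152 := by
  have := fin_j3 h
  obtain ⟨hcard, hM, hone, -⟩ := CpAutJThree.base h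
  obtain ⟨-, -, Q, v, ρ, M⟩ := hM y (orderOf_eq_prime hy hy1)
  exact ncard_comm_aux M

end Cfsg.Agent.H296.JT
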