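import Cfsg.Agent.H296.JT.Count
import Cfsg.Agent.H419.EP.Soc
import Cfsg.Agent.H59.EP.UBFin

/-!
# S3499, `J₃` (helper296)

`index_j3` : `A.index ≤ 2 ^ 51` for `EPT A Γ`, `A` almost simple with socle `J₃`.
-/

set_option autoImplicit false
set_option linter.unusedSectionVars false
set_option linter.unusedVariables false

namespace Cfsg.Agent.H296.JT

open Subgroup Cfsg Cfsg.Spor Cfsg.Agent.H59.EP Cfsg.Agent.H284

section ept

variable {Q : Type*} [Group Q] [Finite Q] {A : Subgroup Q} {Γ : Subgroup (MulAut Q)} (h : EPT A Γ) {N : Subgroup Q}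
  (hNA : N ≤ A) (hN : ∀ a ∈ A, ∀ n ∈ N, a * n * a⁻¹ ∈ N) (hC : ∀ a ∈ A, (∀ n ∈ N, a * n = n * a) → a = 1)
  (hNs : IsSimpleGroup N)

include h hNA hN hC hNs

/-- the socle is invariant -/
theorem soc_inv {σ : MulAut Q} (hσ : σ ∈ Γ) {n : Q} (hn : n ∈ N) : σ n ∈ N := by
  have hN'A : N.map σ.toMonoidHom ≤ A := by
    rintro _ ⟨n, hn, rfl⟩
    exact (h.inv σ hσ n).2 (hNA hn)
  have hN' : ∀ a ∈ A, ∀ n ∈ N.map σ.toMonoidHom, a * n * a⁻¹ ∈ N.map σ.toMonoidHom := by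
    rintro a ha _ ⟨n, hn, rfl⟩
    have h1 : σ⁻¹ a ∈ A := (h.inv σ⁻¹ (inv_mem hσ) a).2 ha
    refine ⟨σ⁻¹ a * n * (σ⁻¹ a)⁻¹, hN _ h1 n hn, ?_⟩
    show σ (σ⁻¹ a * n * (σ⁻¹ a)⁻¹) = a * σ n * a⁻¹
    rw [map_mul, map_mul, map_inv, MulAut.apply_inv_self]
  have hn0 : ((N.map σ.toMonoidHom ⊓ N).subgroupOf N).Normal := ⟨by
    rintro ⟨m, hm'⟩ hm ⟨a, ha⟩
    exact ⟨hN' a (hNA ha) m hm.1, N.mul_mem (N.mul_mem ha hm') (N.inv_mem ha)⟩⟩
  have hcard : Nat.card (N.map σ.toMonoidHom) = Nat.card N := card_map_of_injective σ.injective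
  rcases hn0.eq_bot_or_eq_top with h4 | h4
  · exfalso
    have h5 : N.map σ.toMonoidHom = ⊥ := by
      rw [Subgroup.eq_bot_iff_forall]
      intro k hk
      apply hC k (hN'A hk)
      intro n hn'
      have h5 : k * n * k⁻¹ * n⁻¹ ∈ N.map σ.toMonoidHom ⊓ N := by
        refine ⟨?_, ?_⟩
        · have : k * n * k⁻¹ * n⁻¹ = k * (n * k⁻¹ * n⁻¹) := by group
          rw [this]
          exact mul_mem hk (hN' n (hNA hn') _ (inv_mem hk))
        · exact N.mul_mem (hN k (hN'A hk) n hn') (N.inv_mem hn')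
      have h6 : (⟨k * n * k⁻¹ * n⁻¹, h5.2⟩ : N) ∈ (N.map σ.toMonoidHom ⊓ N).subgroupOf N := h5
      rw [h4, mem_bot] at h6
      have h7 : k * n * k⁻¹ * n⁻¹ = 1 := congrArg Subtype.val h6
      rw [mul_inv_eq_one, mul_inv_eq_iff_eq_mul] at h7
      exact h7
    rw [Subgroup.map_eq_bot_iff_of_injective _ σ.injective] at h5
    have h6 := hNs.exists_pair_ne
    obtain ⟨a, b, hab⟩ := h6
    apply hab
    apply Subtype.ext
    have h7 : ∀ m ∈ N, m = 1 := fun m hm => by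
      rw [h5] at hm
      exact mem_bot.1 hm
    rw [h7 a a.2, h7 b b.2]
  · have h5 : N ≤ N.map σ.toMonoidHom := by
      intro m hm
      have h6 : (⟨m, hm⟩ : N) ∈ (N.map σ.toMonoidHom ⊓ N).subgroupOf N := by rw [h4]; exact mem_top _
      exact h6.1
    have h6 := Subgroup.eq_of_le_of_card_ge h5 hcard.le
    rw [h6]
    exact ⟨n, hn, rfl⟩

/-- the characteristic subgroups of `A ∩ A^x ∩ N` are invariant -/
theorem char_inv {x : Q} {σ : MulAut Q} (hσ : σ ∈ Γ) (hσx : x⁻¹ * σ x ∈ A) {M : Subgroup N}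
    (hM : ∀ n : N, n ∈ M ↔ (n : Q) ∈ A ⊓ cj x A) {Y : Subgroup M} (hY : Y.Characteristic) {k : Q}
    (hk : k ∈ (Y.map M.subtype).map N.subtype) : σ k ∈ (Y.map M.subtype).map N.subtype := by
  have hs1 : ∀ y : M, σ ((y : N) : Q) ∈ N := fun y => soc_inv h hNA hN hC hNs hσ (y : N).2
  have hs2 : ∀ y : M, (⟨σ ((y : N) : Q), hs1 y⟩ : N) ∈ M := fun y => (hM _).2 (h.stab_M0 hσ hσx ((hM _).1 y.2))
  let f : M →* M :=
    { toFun := fun y => ⟨⟨σ ((y : N) : Q), hs1 y⟩, hs2 y⟩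
      map_one' := Subtype.ext (Subtype.ext (map_one σ))
      map_mul' := fun a b => Subtype.ext (Subtype.ext (map_mul σ _ _)) }
  have hf : Function.Injective f := by
    intro y z e
    have e' : σ ((y : N) : Q) = σ ((z : N) : Q) := congrArg (fun w : M => ((w : N) : Q)) e
    exact Subtype.ext (Subtype.ext (σ.injective e'))
  let τ : MulAut M := MulEquiv.ofBijective f (Finite.injective_iff_bijective.1 hf)
  have hτ : Y.map τ.toMonoidHom = Y := Subgroup.characteristic_iff_map_eq.1 hY τ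
  obtain ⟨_, ⟨y, hy, rfl⟩, rfl⟩ := hk
  have h1 : τ y ∈ Y := by
    rw [← hτ]
    exact ⟨y, hy, rfl⟩
  exact ⟨_, ⟨τ y, h1, rfl⟩, rfl⟩

variable (hNc : ¬ ∀ a b : N, a * b = b * a) (h2 : Nat.card A ≤ 2 * Nat.card N)

include hNc h2

theorem inf_ne {x : Q} (hx : x ∉ A) : (A ⊓ cj x A).subgroupOf N ≠ ⊥ := by
  intro e
  have hNn : (N.subgroupOf A).Normal := ⟨by
    rintro ⟨n, hn'⟩ hn ⟨a, ha⟩
    exact hN a ha n hn⟩
  have hinf : (A ⊓ cj x A).subgroupOf A ⊓ N.subgroupOf A = ⊥ := by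
    rw [eq_bot_iff]
    rintro y ⟨hy1, hy2⟩
    have h3 : (⟨(y : Q), hy2⟩ : N) ∈ (A ⊓ cj x A).subgroupOf N := hy1
    rw [e, mem_bot] at h3
    rw [mem_bot]
    exact Subtype.ext (congrArg (fun w : N => (w : Q)) h3)
  have h3 := card_mul_dvd hinf
  rw [Nat.card_congr (Subgroup.subgroupOfEquivOfLe (inf_le_left : A ⊓ cj x A ≤ A)).toEquiv,
    Nat.card_congr (Subgroup.subgroupOfEquivOfLe hNA).toEquiv] at h3
  have h4 := (Nat.le_of_dvd Nat.card_pos h3).trans h2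
  have h5 : Nat.card (A ⊓ cj x A : Subgroup Q) ≤ 2 := Nat.le_of_mul_le_mul_right h4 Nat.card_pos
  have h6 := EPT.six_le h (noAb_of_soc hNA hN hNs (fun hc => hNc fun a b => Subtype.ext (hc a a.2 b b.2)) hC) hx
  omega

/-- the two-point stabilisers are the normalizers of admissible subgroups -/
theorem exists_adm (h5 : ∀ p, p.Prime → 5 ≤ p → ¬ p ^ 2 ∣ Nat.card N) {x : Q} (hx : x ∉ A) :
    ∃ X : Subgroup N, X ∈ Adm N ∧ ∀ a, a ∈ A ⊓ cj x A ↔ a ∈ A ∧ ∀ k ∈ X.map N.subtype, a * k * a⁻¹ ∈ X.map N.subtype := by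
  set M : Subgroup N := (A ⊓ cj x A).subgroupOf N with hM
  have hMne : M ≠ ⊥ := inf_ne h hNA hN hC hNs hNc h2 hx
  have hMn : Nontrivial M := (Subgroup.nontrivial_iff_ne_bot M).2 hMne
  obtain ⟨Y, hY, hYne, hYmin⟩ := exists_min_char (B := M)
  have hYn : Nontrivial Y := (Subgroup.nontrivial_iff_ne_bot Y).2 hYne
  have hYc : ∀ Z : Subgroup Y, Z.Characteristic → Z = ⊥ ∨ Z = ⊤ := by
    intro Z hZ
    by_cases hZb : Z = ⊥
    · exact Or.inl hZb
    right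
    have h1 := hYmin (Z.map Y.subtype) char_trans (by
      rintro _ ⟨z, _, rfl⟩
      exact z.2) (by
      intro e
      rw [Subgroup.map_eq_bot_iff_of_injective _ Y.subtype_injective] at e
      exact hZb e)
    rw [Subgroup.eq_top_iff']
    intro y
    have h2 : (y : M) ∈ Z.map Y.subtype := by rw [h1]; exact y.2
    obtain ⟨z, hz, e⟩ := h2
    have : z = y := Subtype.ext e
    rw [← this]
    exact hz
  set X : Subgroup N := Y.map M.subtype with hX
  have hcard : Nat.card X = Nat.card Y :=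
    (Nat.card_congr (Y.equivMapOfInjective _ M.subtype_injective).toEquiv).symm
  have e : Y ≃* X := Y.equivMapOfInjective _ M.subtype_injective
  have hXB : Nat.card Y ∣ Nat.card N := by
    rw [← hcard]
    exact Subgroup.card_subgroup_dvd_card X
  have hXne : X ≠ ⊥ := by
    intro e
    rw [hX, Subgroup.map_eq_bot_iff_of_injective _ M.subtype_injective] at e
    exact hYne e
  have hinv : ∀ σ ∈ Γ, x⁻¹ * σ x ∈ A → ∀ k ∈ X.map N.subtype, σ k ∈ X.map N.subtype :=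
    fun σ hσ hσx k hk => char_inv h hNA hN hC hNs hσ hσx (fun n => Iff.rfl) hY hk
  have hXM : X.map N.subtype ≤ A ⊓ cj x A := by
    rintro _ ⟨_, ⟨y, hy, rfl⟩, rfl⟩
    exact y.2
  have hXQ : X.map N.subtype ≠ ⊥ := by
    intro e
    rw [Subgroup.map_eq_bot_iff_of_injective _ N.subtype_injective] at e
    exact hXne e
  have hnorm : ∀ a, a ∈ A ⊓ cj x A ↔ a ∈ A ∧ ∀ k ∈ X.map N.subtype, a * k * a⁻¹ ∈ X.map N.subtype := by
    intro a
    constructor
    · intro ha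
      have haA : a ∈ A := (mem_inf.1 ha).1
      refine ⟨haA, fun k hk => ?_⟩
      exact hinv (MulAut.conj a) ((h.conj a).2 haA) ((h.conj_stab haA).2 (mem_inf.1 ha).2) k hk
    · rintro ⟨haA, hak⟩
      refine mem_inf.2 ⟨haA, ?_⟩
      rw [← h.conj_stab haA]
      exact h.norm x hx _ hXM hinv hXQ _ ((h.conj a).2 haA) hak
  have hXtop : X ≠ ⊤ := by
    intro e
    have h1 : A ≤ cj x A := by
      intro a ha
      have h2 := (hnorm a).2 ⟨ha, fun k hk => by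
        rw [e, ← MonoidHom.range_eq_map, N.range_subtype] at hk ⊢
        exact hN a ha k hk⟩
      exact (mem_inf.1 h2).2
    have h3 : A = cj x A := Subgroup.eq_of_le_of_card_ge h1 (card_cj x A).le
    apply hx
    apply h.selfnorm
    intro a ha
    rw [h3]
    exact conj_mem_cj ha
  refine ⟨X, ?_, hnorm⟩
  rcases char_simple hYc (fun p hp hp5 hd => h5 p hp hp5 (hd.trans hXB)) with ⟨s, hs, hsd, hel⟩ | ⟨h1, h2⟩
  · left
    refine ⟨s, hs, hsd.trans hXB, ⟨?_, ?_⟩, hXne⟩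
    · rintro _ ⟨a, ha, rfl⟩ _ ⟨b, hb, rfl⟩
      have := hel.comm ⟨a, ha⟩ (mem_top _) ⟨b, hb⟩ (mem_top _)
      have h1 : a * b = b * a := Subtype.ext_iff.1 this
      rw [← map_mul, ← map_mul, h1]
    · rintro _ ⟨a, ha, rfl⟩
      have := hel.exp ⟨a, ha⟩ (mem_top _)
      have h1 : a ^ s = 1 := Subtype.ext_iff.1 this
      rw [← map_pow, h1, map_one]
  · right
    have hXs : IsSimpleGroup X := e.symm.isSimpleGroup
    exact ⟨⟨hXs, fun h => h2 (Group.isSolvable_of_isSolvable_injective (f := e.toMonoidHom) e.injective)⟩, hXtop⟩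

/-- the number of two-point stabilisers -/
theorem ncard_le_adm (h5 : ∀ p, p.Prime → 5 ≤ p → ¬ p ^ 2 ∣ Nat.card N) :
    {M : Subgroup Q | ∃ x, x ∉ A ∧ M = A ⊓ cj x A}.ncard ≤ (Adm N).ncard := by
  classical
  have key : ∀ M ∈ {M : Subgroup Q | ∃ x, x ∉ A ∧ M = A ⊓ cj x A}, ∃ X : Subgroup N, X ∈ Adm N ∧
      ∀ a, a ∈ M ↔ a ∈ A ∧ ∀ k ∈ X.map N.subtype, a * k * a⁻¹ ∈ X.map N.subtype := by
    rintro _ ⟨x, hx, rfl⟩
    exact exists_adm h hNA hN hC hNs hNc h2 h5 hx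
  choose! f hf1 hf2 using key
  refine Set.ncard_le_ncard_of_injOn f hf1 ?_ (Set.toFinite _)
  intro M hM M' hM' e
  ext a
  rw [hf2 M hM, hf2 M' hM', e]

/-- a lower bound for the orders of the two-point stabilisers -/
theorem card_ge_adm (h5 : ∀ p, p.Prime → 5 ≤ p → ¬ p ^ 2 ∣ Nat.card N) {μ : ℕ}
    (hμ : ∀ X ∈ Adm N, μ ≤ Nat.card (normalizer (X : Set N))) {x : Q} (hx : x ∉ A) :
    μ ≤ Nat.card (A ⊓ cj x A : Subgroup Q) := by
  obtain ⟨X, hX, hn⟩ := exists_adm h hNA hN hC hNs hNc h2 h5 hx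
  refine (hμ X hX).trans ?_
  refine Nat.card_le_card_of_injective (fun y : normalizer (X : Set N) => (⟨((y : N) : Q), ?_⟩ : (A ⊓ cj x A : Subgroup Q))) ?_
  · rw [hn]
    refine ⟨hNA (y : N).2, ?_⟩
    rintro _ ⟨k, hk, rfl⟩
    exact ⟨_, (mem_normalizer_iff.1 y.2 k).1 hk, rfl⟩
  · intro y z e
    exact Subtype.ext (Subtype.ext (congrArg (fun w : (A ⊓ cj x A : Subgroup Q) => (w : Q)) e))

end ept

/-- **`J₃`**: `A.index ≤ 2 ^ 51` -/
theorem index_j3 (B : Cfsg.Agent.H940.Eng.Base) {Q : Type*} [Group Q] [Finite Q] (hs : IsSimpleGroup Q) {A : Subgroup Q}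
    {Γ : Subgroup (MulAut Q)} (h : EPT A Γ) {L : Type*} [Group L] (hL : IsoJ3 L)
    (hSoc : Cfsg.Agent.H419.EP.HasSoc A L) : A.index ≤ 2 ^ 51 := by
  obtain ⟨hcL, -, -, hind⟩ := CpAutJThree.base hL
  have hLf : Finite L := Nat.finite_of_card_ne_zero (by rw [hcL]; norm_num)
  have hcard : Nat.card A ≤ 2 * 50232960 := by
    refine hSoc.card_le.trans ?_
    have h1 := (MulAut.conj : L →* MulAut L).range.card_mul_index
    have h2 : Nat.card (MulAut.conj : L →* MulAut L).range ≤ 50232960 := by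
      rw [← hcL]
      exact Nat.card_le_card_of_surjective _ (MonoidHom.rangeRestrict_surjective (MulAut.conj : L →* MulAut L))
    rcases hind with h3 | h3 <;> rw [h3] at h1 <;> omega
  obtain ⟨N, hNA, hN, hC, ⟨e⟩⟩ := hSoc
  obtain ⟨F, i1, i2, ω, hF, hω, ⟨e'⟩⟩ := hL
  let K := J3 F ω
  have hK : IsoJ3 K := ⟨F, i1, i2, ω, hF, hω, ⟨MulEquiv.refl _⟩⟩
  have hKf := fin_j3 hK
  have f : N ≃* K := e.trans e'
  have hNcard : Nat.card N = 50232960 := by rw [Nat.card_congr f.toEquiv, card_j3 hK]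
  have hKs : IsSimpleGroup K := (H898.J3Cent.base hK).1
  have hNs : IsSimpleGroup N := f.isSimpleGroup
  have hNc : ¬ ∀ a b : N, a * b = b * a := by
    intro hab
    have h1 : ¬ IsMulCommutative N := Cfsg.Agent.SmallSimple.Embed.not_comm_of_card_not_prime (by rw [hNcard]; norm_num)
    exact h1 ⟨⟨hab⟩⟩
  have h2 : Nat.card A ≤ 2 * Nat.card N := by rw [hNcard]; exact hcard
  have h5 : ∀ p, p.Prime → 5 ≤ p → ¬ p ^ 2 ∣ Nat.card N := by
    intro p hp hp5 hd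
    have hpd : p ∣ 50232960 := by rw [← hNcard]; exact (dvd_pow_self p two_ne_zero).trans hd
    rw [hNcard] at hd
    rcases Cfsg.Agent.H898.J3Cent.prime_dvd_card hp hpd with rfl | rfl | rfl | rfl | rfl
    · omega
    · omega
    · norm_num at hd
    · norm_num at hd
    · norm_num at hd
  have hμ : ∀ X ∈ Adm N, 16 ≤ Nat.card (normalizer (X : Set N)) := by
    intro X hX
    rw [← card_normalizer_map f X]
    exact sixteen_adm hK (map_adm f hX)
  have h6 := Cfsg.Agent.H173.EP.ub1 hs h (μ := 16) (by norm_num)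
    (fun x hx => card_ge_adm h hNA hN hC hNs hNc h2 h5 hμ hx)
  have h7 : {M : Subgroup Q | ∃ x, x ∉ A ∧ M = A ⊓ cj x A}.ncard ≤ 141880942 :=
    (ncard_le_adm h hNA hN hC hNs hNc h2 h5).trans ((ncard_adm_le f).trans (ncard_adm B hK))
  refine h6.trans ?_
  have h8 : 2 * (Nat.card A / 16) ≤ 2 * (2 * 50232960 / 16) := Nat.mul_le_mul_left _ (Nat.div_le_div_right hcard)
  calc 1 + {M : Subgroup Q | ∃ x, x ∉ A ∧ M = A ⊓ cj x A}.ncard * (2 * (Nat.card A / 16))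
      ≤ 1 + 141880942 * (2 * (2 * 50232960 / 16)) := Nat.add_le_add_left (Nat.mul_le_mul h7 h8) _
    _ ≤ 2 ^ 51 := by norm_num

end Cfsg.Agent.H296.JT
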