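import Cfsg.Agent.H792.Sp.JThree
import Cfsg.Agent.H305.OddJ3
import Cfsg.Agent.H296.JT.Inv
import Cfsg.Agent.H296.JT.Elab

/-!
# S3499, `J₃`: the prime 3 (helper296)

The elements of order 3 of a Sylow 3-subgroup lie in an elementary abelian subgroup `W` of order 27.
-/

set_option autoImplicit false

namespace Cfsg.Agent.H296.JT

open Subgroup Cfsg Cfsg.Spor Cfsg.Agent.J3.Core Cfsg.Agent.J3.Tab
  Cfsg.Agent.J3.Mono Cfsg.Agent.J3.Elts Cfsg.Agent.H898.J3Three Cfsg.Agent.H792.SpJ3 Cfsg.Agent.H749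
open Cfsg.Agent.J3.Nineteen (exists_scalar center_eq card_center)

/-- every subgroup of order 243 has a `W` -/
def HasW (G : Type*) [Group G] : Prop := ∀ S : Subgroup G, Nat.card S = 243 → ∃ W : Subgroup G, Nat.card W = 27 ∧
  (∀ a ∈ W, ∀ b ∈ W, a * b = b * a) ∧ W ≤ S ∧ ∀ x ∈ S, x ^ 3 = 1 → x ∈ W

theorem HasW.congr {G G' : Type*} [Group G] [Group G'] (h : HasW G) (e : G' ≃* G) : HasW G' := by
  intro S hS
  obtain ⟨W, h1, h2, h3, h4⟩ := h (S.map e.toMonoidHom)
    ((Nat.card_congr (S.equivMapOfInjective _ e.injective).toEquiv).symm.trans hS)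
  have hmem : ∀ x : G', x ∈ W.map e.symm.toMonoidHom ↔ e x ∈ W := by
    intro x
    constructor
    · rintro ⟨y, hy, rfl⟩
      have : e (e.symm y) = y := e.apply_symm_apply y
      show e (e.symm y) ∈ W
      rw [this]
      exact hy
    · intro hx
      exact ⟨e x, hx, e.symm_apply_apply x⟩
  refine ⟨W.map e.symm.toMonoidHom, ?_, ?_, ?_, ?_⟩
  · rw [← h1]
    exact (Nat.card_congr (W.equivMapOfInjective _ e.symm.injective).toEquiv).symm
  · intro a ha b hb
    apply e.injective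
    rw [map_mul, map_mul]
    exact h2 _ ((hmem a).1 ha) _ ((hmem b).1 hb)
  · intro x hx
    obtain ⟨y, hy, e1⟩ := h3 ((hmem x).1 hx)
    have : y = x := e.injective e1
    rw [← this]
    exact hy
  · intro x hx hx3
    refine (hmem x).2 (h4 _ ⟨x, hx, rfl⟩ ?_)
    rw [← map_pow, hx3, map_one]

section
variable {F : Type} [Field F] [Fintype F] {ω : F}

/-- the subgroup `{E^k A_a}` -/
def WW (H : Good ω) (G : Gens F ω) : Subgroup (J3 F ω) where
  carrier := {x | ∃ (k : ℕ) (a : F9), x = pr (G.e ^ k * G.a a)}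
  one_mem' := ⟨0, 0, by rw [a_zero H G, pow_zero, mul_one, map_one]⟩
  mul_mem' := by
    rintro _ _ ⟨k, a, rfl⟩ ⟨l, b, rfl⟩
    refine ⟨k + l, a + b, ?_⟩
    rw [← map_mul]
    congr 1
    rw [pow_add, ← aa G H]
    calc G.e ^ k * G.a a * (G.e ^ l * G.a b) = G.e ^ k * (G.a a * G.e ^ l) * G.a b := by simp only [mul_assoc]
      _ = _ := by rw [aek G H]; simp only [mul_assoc]
  inv_mem' := by
    rintro _ ⟨k, a, rfl⟩
    refine ⟨2 * k, -a, ?_⟩
    rw [inv_eq_iff_mul_eq_one, ← map_mul]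
    have e1 : G.e ^ k * G.a a * (G.e ^ (2 * k) * G.a (-a)) = 1 := by
      calc G.e ^ k * G.a a * (G.e ^ (2 * k) * G.a (-a)) = G.e ^ k * (G.a a * G.e ^ (2 * k)) * G.a (-a) := by
            simp only [mul_assoc]
        _ = G.e ^ (3 * k) * (G.a a * G.a (-a)) := by
            rw [aek G H, show 3 * k = k + 2 * k by ring, pow_add]; simp only [mul_assoc]
        _ = 1 := by rw [aa G H, add_neg_cancel, a_zero H G, mul_one, pow_mul, e_cube G H, one_pow]
    rw [e1, map_one]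

omit [Fintype F] in
theorem WW_comm (H : Good ω) (G : Gens F ω) : ∀ a ∈ WW H G, ∀ b ∈ WW H G, a * b = b * a := by
  rintro _ ⟨k, a, rfl⟩ _ ⟨l, b, rfl⟩
  rw [← map_mul, ← map_mul]
  congr 1
  calc G.e ^ k * G.a a * (G.e ^ l * G.a b) = G.e ^ k * (G.a a * G.e ^ l) * G.a b := by simp only [mul_assoc]
    _ = G.e ^ (k + l) * (G.a a * G.a b) := by rw [aek G H, pow_add]; simp only [mul_assoc]
    _ = G.e ^ (l + k) * (G.a b * G.a a) := by rw [aa G H, aa G H, add_comm k l, add_comm a b]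
    _ = G.e ^ l * (G.a b * G.e ^ k) * G.a a := by rw [aek G H, pow_add]; simp only [mul_assoc]
    _ = _ := by simp only [mul_assoc]

theorem card_WW (hF : Fintype.card F = 4) (H : Good ω) (G : Gens F ω) : Nat.card (WW H G) = 27 := by
  obtain ⟨s0, hs0⟩ := exists_scalar H G
  have hfin := finite_three hF H
  let f : Fin 3 × F9 → WW H G := fun p => ⟨pr (G.e ^ (p.1 : ℕ) * G.a p.2), p.1, p.2, rfl⟩
  have hf : Function.Bijective f := by
    constructor
    · rintro ⟨k, a⟩ ⟨l, b⟩ h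
      have h1 : (pr (G.e ^ (k : ℕ) * G.a a) : J3 F ω) = pr (G.e ^ (l : ℕ) * G.a b) := Subtype.ext_iff.1 h
      have h2 := QuotientGroup.eq.1 h1
      rw [center_eq hF H hs0] at h2
      obtain ⟨n, hn⟩ := (isOfFinOrder_of_finite s0).mem_powers_iff_mem_zpowers.2 h2
      have hn' : s0 ^ n = (G.e ^ (k : ℕ) * G.a a)⁻¹ * (G.e ^ (l : ℕ) * G.a b) := hn
      have h3 : s0 ^ n = s0 ^ (n % 3) := by
        conv_lhs => rw [← Nat.div_add_mod n 3, pow_add, pow_mul, s0_cube H hs0, one_pow, one_mul]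
      rw [h3, eq_inv_mul_iff_mul_eq] at hn'
      have h4 : el G s0 ((⟨n % 3, Nat.mod_lt _ (by norm_num)⟩ : Fin 3) : ℕ) (k : ℕ) a 0 =
          el G s0 ((0 : Fin 3) : ℕ) (l : ℕ) b 0 := by
        unfold el
        rw [Fin.val_zero, pow_zero, one_mul, d_zero G, mul_one, mul_one, ← hn', s0_pow_comm hs0]
      have h5 := el_inj G H hs0 h4
      exact Prod.ext h5.2.1 h5.2.2.1
    · rintro ⟨_, k, a, rfl⟩
      refine ⟨(⟨k % 3, Nat.mod_lt _ (by norm_num)⟩, a), Subtype.ext ?_⟩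
      show (pr (G.e ^ (k % 3) * G.a a) : J3 F ω) = pr (G.e ^ k * G.a a)
      rw [← e_mod H G k]
  rw [← Nat.card_congr (Equiv.ofBijective f hf), Nat.card_prod, Nat.card_eq_fintype_card, Fintype.card_fin]
  have : Nat.card F9 = 9 := by rw [Nat.card_eq_fintype_card]; rfl
  rw [this]

theorem hasW_model (hF : Fintype.card F = 4) (H : Good ω) (G : Gens F ω) (hc : Nat.card (J3 F ω) = 50232960) :
    HasW (J3 F ω) := by
  have f3 : Fact (Nat.Prime 3) := ⟨Nat.prime_three⟩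
  have hfin : Finite (J3 F ω) := Nat.finite_of_card_ne_zero (by rw [hc]; norm_num)
  obtain ⟨S0, hS0⟩ := exists_S hF H G
  have hfac : (Nat.card (J3 F ω)).factorization 3 = 5 := by
    rw [hc, show (50232960 : ℕ) = 3 ^ 5 * 206720 by norm_num,
      Nat.factorization_mul (by norm_num) (by norm_num), Finsupp.add_apply, Nat.prime_three.factorization_pow,
      Finsupp.single_eq_same, Nat.factorization_eq_zero_of_not_dvd (by norm_num)]
  have hW0 : WW H G ≤ (S0 : Subgroup (J3 F ω)) := by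
    rintro _ ⟨k, a, rfl⟩
    exact (hS0 _).2 ⟨k, a, 0, by rw [d_zero G, mul_one]⟩
  have hc0 : ∀ x ∈ (S0 : Subgroup (J3 F ω)), x ^ 3 = 1 → x ∈ WW H G := by
    intro x hx hx3
    obtain ⟨k, a, w, rfl⟩ := (hS0 x).1 hx
    have hw : w = 0 := by
      by_contra hw
      apply cube_ne H G hw (k := k) (a := a)
      apply cube_eq_one hF H
      rw [← map_pow] at hx3
      exact (QuotientGroup.eq_one_iff _).1 hx3
    subst hw
    rw [d_zero G, mul_one]
    exact ⟨k, a, rfl⟩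
  intro S hS
  let S' : Sylow 3 (J3 F ω) := Sylow.ofCard S (by rw [hS, hfac]; norm_num)
  obtain ⟨g, hg⟩ := MulAction.exists_smul_eq (J3 F ω) S0 S'
  have hg' : (S0 : Subgroup (J3 F ω)).map (MulAut.conj g).toMonoidHom = S := by
    have h1 : ((g • S0 : Sylow 3 (J3 F ω)) : Subgroup (J3 F ω)) = (S' : Subgroup (J3 F ω)) := by rw [hg]
    rw [Sylow.coe_subgroup_smul] at h1
    exact h1
  refine ⟨(WW H G).map (MulAut.conj g).toMonoidHom, ?_, ?_, ?_, ?_⟩
  · rw [← card_WW hF H G]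
    exact (Nat.card_congr ((WW H G).equivMapOfInjective _ (MulAut.conj g).injective).toEquiv).symm
  · rintro _ ⟨a, ha, rfl⟩ _ ⟨b, hb, rfl⟩
    rw [← map_mul, ← map_mul, WW_comm H G a ha b hb]
  · rw [← hg']
    exact Subgroup.map_mono hW0
  · intro x hx hx3
    rw [← hg'] at hx
    obtain ⟨y, hy, rfl⟩ := hx
    refine ⟨y, hc0 y hy ?_, rfl⟩
    rw [← map_pow] at hx3
    exact (MulAut.conj g).injective (hx3.trans (map_one _).symm)

end

theorem hasW {K : Type*} [Group K] (h : IsoJ3 K) : HasW K := by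
  have hcK := card_j3 h
  obtain ⟨F, _, _, ω, hF, hω, ⟨e⟩⟩ := h
  have H := good_of_card hF hω
  obtain ⟨G⟩ := exists_gens hF H
  exact (hasW_model hF H G (by rw [← hcK, Nat.card_congr e.toEquiv])).congr e

end Cfsg.Agent.H296.JT
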